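import Cfsg.Agent.Lib.H17.L34M.Model1.Tabs

set_option autoImplicit false
set_option maxRecDepth 100000

/-! # The monomial model: word checks (generated) -/

namespace Cfsg.Agent.Lib.H17.L34M.Model1

open Cfsg.Agent.Lib.H17.MonoModel

theorem wchk12 : checkWordM (List.map tabs [1, 1, 3, 1, 3, 3, 1, 3, 1, 3, 3, 1, 3, 1, 3, 0, 2, 0, 2, 2]) 3 2880 = true := by
  decide +kernel

theorem wchk13 : checkWordM (List.map tabs [1, 1, 1, 2, 0, 0, 3, 1, 1, 2, 0, 0, 3, 1, 3, 0, 0, 2]) 6 2880 = true := by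
  decide +kernel

theorem wchk14 : checkWordM (List.map tabs [1, 1, 1, 3, 3, 1, 1, 1, 2, 0, 3, 1, 2, 2, 0, 0, 3, 3, 1, 1, 3]) 5 2880 = true := by
  decide +kernel

theorem wchk15 : checkWordM (List.map tabs [1, 3, 3, 1, 3, 3, 1, 3, 3, 1, 3, 3, 1, 3, 3]) 9 2880 = true := by
  decide +kernel

theorem wchk16 : checkWordM (List.map tabs [1, 3, 1, 3, 1, 3, 1, 2, 0, 3, 3, 1, 3, 1, 3, 3, 0, 2]) 8 2880 = true := by
  decide +kernel

theorem wchk17 : checkWordM (List.map tabs [1, 1, 3, 1, 1, 3, 1, 1, 3, 1, 1, 3, 1, 1, 3, 1, 1, 3, 1, 1, 3]) 4 2880 = true := by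
  decide +kernel

theorem wchk18 : checkWordM (List.map tabs [1, 1, 3, 1, 1, 3, 3, 1, 3, 3, 1, 1, 3, 1, 1, 3, 3, 1, 3, 3]) 0 2880 = true := by
  decide +kernel

theorem wchk19 : checkWordM (List.map tabs [1, 1, 2, 0, 3, 1, 2, 0, 3, 1, 2, 0, 3, 3, 0, 2, 1, 3, 0, 2]) 6 2880 = true := by
  decide +kernel

theorem wchk20 : checkWordM (List.map tabs [1, 1, 1, 2, 0, 3, 1, 1, 2, 2, 1, 1, 3, 0, 2, 1, 1, 3, 0, 2]) 0 2880 = true := by
  decide +kernel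

theorem wchk21 : checkWordM (List.map tabs [1, 1, 3, 1, 1, 3, 3, 3, 1, 1, 3, 1, 1, 2, 0, 3, 1, 3, 1, 1, 2, 2]) 1 2880 = true := by
  decide +kernel

theorem wchk22 : checkWordM (List.map tabs [1, 1, 3, 1, 3, 1, 1, 3, 1, 3, 1, 1, 3, 1, 3, 1, 1, 3, 1, 3]) 2 2880 = true := by
  decide +kernel

theorem wchk23 : checkWordM (List.map tabs [1, 1, 3, 1, 1, 3, 1, 1, 3, 3, 1, 1, 2, 0, 2, 2, 0, 0, 3, 1, 3, 3]) 1 2880 = true := by
  decide +kernel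

end Cfsg.Agent.Lib.H17.L34M.Model1
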